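import Groth.Agent.CartDiv.Avoid
import Groth.Agent.AmpleLib.GenIso
import Groth.Agent.PicLaw.Basic

/-!
# Large twists have sections generating at finitely many given points
-/

set_option autoImplicit false
set_option linter.style.haveILetI false

universe u

open CategoryTheory Limits AlgebraicGeometry Opposite TopologicalSpace

noncomputable section

namespace Groth.Agent.GenAt

variable {X : Scheme.{u}}

theorem isInvertible_structureModule (X : Scheme.{u}) : PicF.IsInvertible (Coh.structureModule X) :=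
  fun x => ⟨⊤, trivial, ⟨Scheme.Modules.restrictUnitIso _⟩⟩

/-- For every large `N`, `L ⊗ A^N` has a section generating at the points of `E`. -/
theorem exists_sections [CompactSpace X] {A L : X.Modules} (hA : CohB1.IsAmple A) (hL : PicF.IsInvertible L)
    (E : Finset X) : ∃ N₀ : ℕ, ∀ N : ℕ, N₀ ≤ N →
      ∃ t : Coh.structureModule X ⟶ CohB1.tensorMod L (CohB1.tensorPow A N),
        (E : Set X) ⊆ CohB1.genLocus _ t := by
  rcases E.eq_empty_or_nonempty with rfl | hne
  · exact ⟨0, fun N _ => ⟨0, by simp⟩⟩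
  haveI := Props.AmpleBase.isSeparated_of_isAmple hA
  obtain ⟨K, s, hs⟩ := GalCohAux.AmpleFinite.exists_nonvanishing hA E hne
  haveI := Props.AmpleBase.isQuasiAffine_genLocus hA (Nat.succ_pos K) s
  have hc := Props.AmpleBase.isCompact_genLocus hA.1 s
  choose N hN using fun r : Fin (K + 1) =>
    CartDiv.Avoid.exists_twist_section hA.1 hL s hc r.1 E hs
  let N₁ := Finset.univ.sup N
  refine ⟨(K + 1) * (N₁ + 1), fun n hn => ?_⟩
  let r : Fin (K + 1) := ⟨n % (K + 1), Nat.mod_lt _ (Nat.succ_pos K)⟩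
  have hM : N r ≤ n / (K + 1) := by
    have h1 : N r ≤ N₁ := Finset.le_sup (Finset.mem_univ r)
    have h2 : N₁ + 1 ≤ n / (K + 1) := (Nat.le_div_iff_mul_le (Nat.succ_pos K)).2 (by rw [Nat.mul_comm]; exact hn)
    omega
  obtain ⟨t, ht⟩ := ((Nat.div_add_mod n (K + 1) : (K + 1) * (n / (K + 1)) + r.1 = n) ▸ hN r (n / (K + 1)) hM :
    ∃ t : Coh.structureModule X ⟶ CohB1.tensorPow (CohB1.tensorMod (CohB1.tensorPow A n) L) 1,
      (E : Set X) ⊆ CohB1.genLocus _ t)
  have hAn := AmpleLib.isInvertible_tensorPow hA.1 n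
  obtain ⟨e0⟩ := PicLaw.tensor_comm hAn hL
  have hP : PicF.IsInvertible (CohB1.tensorMod (CohB1.tensorPow A n) L) :=
    Props.AmpleTensor.isInvertible hAn hL (Props.AmpleTensor.FrameMap2.tensor _ _)
  obtain ⟨e1⟩ := PicLaw.tensor_comm (isInvertible_structureModule X) hP
  obtain ⟨e2⟩ := PicLaw.tensor_structureModule hP
  let e : CohB1.tensorPow (CohB1.tensorMod (CohB1.tensorPow A n) L) 1 ≅
      CohB1.tensorMod L (CohB1.tensorPow A n) := e1 ≪≫ e2 ≪≫ e0
  exact ⟨t ≫ e.hom, by rw [AmpleLib.genLocus_comp_iso]; exact ht⟩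

end Groth.Agent.GenAt

end
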